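import Cfsg.Agent.Lib.FewOrders.Prime
import Cfsg.Agent.Lib.CNGroup.Solvable
import Cfsg.Agent.Lib.PGroup.Frattini
import Cfsg.Agent.Lib.OddOrder41.NormalElementary

/-!
A group with prime power orders outside a normal subgroup: the action on elementary subgroups inside
the normal subgroup.
-/

set_option autoImplicit false
set_option linter.style.haveILetI false

namespace CfsgLib.OutsideEPPO

open Subgroup
open scoped IsMulCommutative

variable {G : Type*} [Group G] [Finite G]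

/-- All elements outside `N` have prime power order. -/
def Outside (N : Subgroup G) : Prop := ∀ x : G, x ∉ N → IsPrimePow (orderOf x)

theorem eq_of_dvd_orderOf {g : G} {u w : ℕ} (hu : u.Prime) (hw : w.Prime)
    (hg : IsPrimePow (orderOf g)) (hu' : u ∣ orderOf g) (hw' : w ∣ orderOf g) : u = w := by
  obtain ⟨p, k, hp, -, hk⟩ := hg
  have hp' : p.Prime := Nat.prime_iff.mpr hp
  rw [(Nat.prime_dvd_prime_iff_eq hu hp').mp (hu.dvd_of_dvd_pow (hk ▸ hu')),
    (Nat.prime_dvd_prime_iff_eq hw hp').mp (hw.dvd_of_dvd_pow (hk ▸ hw'))]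

variable {N : Subgroup G} [N.Normal]

theorem Outside.quotient (h : Outside N) : FewOrders.IsEPPO (G ⧸ N) := by
  intro y hy
  obtain ⟨x, rfl⟩ := QuotientGroup.mk'_surjective N y
  refine (h x fun hx => hy ((QuotientGroup.eq_one_iff x).mpr hx)).dvd (orderOf_map_dvd _ x) ?_
  rwa [Ne, orderOf_eq_one_iff]

theorem Outside.exists_lift (h : Outside N) {X : Subgroup G} (hsurj : X ⊔ N = ⊤) {u : ℕ}
    (hu : u.Prime) (hud : u ∣ Nat.card (G ⧸ N)) :
    ∃ x ∈ X, x ∉ N ∧ (∃ a, 0 < a ∧ orderOf x = u ^ a) ∧ x ^ u ∈ N := by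
  haveI := Fact.mk hu
  obtain ⟨y, hy⟩ := exists_prime_orderOf_dvd_card' (G := G ⧸ N) u hud
  obtain ⟨g, rfl⟩ := QuotientGroup.mk'_surjective N y
  obtain ⟨x, hx, n, hn, rfl⟩ := Subgroup.mem_sup_of_normal_right.mp (hsurj ▸ mem_top g)
  have h1 : QuotientGroup.mk' N (x * n) = QuotientGroup.mk' N x := by
    rw [map_mul, (QuotientGroup.eq_one_iff n).mpr hn |> fun h => (h : QuotientGroup.mk' N n = 1), mul_one]
  rw [h1] at hy
  have hxN : x ∉ N := fun hxN => by
    rw [show QuotientGroup.mk' N x = 1 from (QuotientGroup.eq_one_iff x).mpr hxN, orderOf_one] at hy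
    exact hu.ne_one hy.symm
  refine ⟨x, hx, hxN, ?_, ?_⟩
  · obtain ⟨p, k, hp, hk0, hk⟩ := h x hxN
    have hp' : p.Prime := Nat.prime_iff.mpr hp
    obtain rfl : u = p := (Nat.prime_dvd_prime_iff_eq hu hp').mp
      (hu.dvd_of_dvd_pow (hk ▸ hy ▸ orderOf_map_dvd _ x))
    exact ⟨k, hk0, hk.symm⟩
  · refine (QuotientGroup.eq_one_iff _).mp ?_
    show QuotientGroup.mk' N (x ^ u) = 1
    rw [map_pow, ← hy, pow_orderOf_eq_one]

/-- An element outside `N` of order prime to `q` fixes nothing in an elementary `q`-subgroup of `N`. -/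
theorem Outside.eq_one_of_commute (h : Outside N) {q u a : ℕ} (hq : q.Prime) (hu : u.Prime)
    (huq : u ≠ q) {V : Subgroup G} (hVN : V ≤ N) (hVe : ∀ v ∈ V, v ^ q = 1) {x v : G} (hxN : x ∉ N)
    (ha : 0 < a) (hx : orderOf x = u ^ a) (hv : v ∈ V) (hxv : Commute x v) : v = 1 := by
  by_contra hv1
  haveI := Fact.mk hq
  have hvo : orderOf v = q := orderOf_eq_prime (hVe v hv) hv1
  have hxvN : x * v ∉ N := fun hm => hxN (by simpa using N.mul_mem hm (N.inv_mem (hVN hv)))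
  have ho : orderOf (x * v) = u ^ a * q := by
    rw [hxv.orderOf_mul_eq_mul_orderOf_of_coprime
      (by rw [hx, hvo]; exact ((Nat.coprime_primes hu hq).mpr huq).pow_left a), hx, hvo]
  exact huq (eq_of_dvd_orderOf hu hq (h _ hxvN) (ho ▸ (dvd_pow_self u ha.ne').mul_right q)
    (ho ▸ dvd_mul_left q _))

theorem Outside.even_quotient (h : Outside N) (hns : ¬ Group.IsSolvable (G ⧸ N)) :
    2 ∣ Nat.card (G ⧸ N) := by
  by_contra hodd
  refine hns (CfsgLib.CNGroup.cn_solvable_aux _ (G ⧸ N) rfl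
    (Nat.odd_iff.mpr (Nat.two_dvd_ne_zero.mp hodd)) ?_)
  intro y hy
  obtain ⟨p, k, hp, hk0, hk⟩ := h.quotient y hy
  have hp' : p.Prime := Nat.prime_iff.mpr hp
  haveI := Fact.mk hp'
  have hcard : IsPGroup p (centralizer ({y} : Set (G ⧸ N))) := by
    refine IsPGroup.iff_orderOf.mpr fun z => ?_
    obtain ⟨y', hy', hyo⟩ : ∃ y', y' ∈ zpowers y ∧ orderOf y' = p := by
      refine ⟨y ^ (orderOf y / p), pow_mem (mem_zpowers y) _,
        orderOf_pow_orderOf_div (orderOf_pos y).ne' (hk ▸ dvd_pow_self p hk0.ne')⟩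
    refine ⟨(orderOf z).factorization p, ?_⟩
    by_contra hne
    obtain ⟨r, hr, hrd, hrp⟩ : ∃ r, r.Prime ∧ r ∣ orderOf z ∧ r ≠ p := by
      by_contra hcon
      push Not at hcon
      have h1 := Nat.eq_prime_pow_of_unique_prime_dvd (orderOf_pos z).ne'
        (p := p) fun {d} hd hdz => hcon d hd hdz
      apply hne
      rw [h1, Nat.Prime.factorization_pow hp', Finsupp.single_eq_same]
    haveI := Fact.mk hr
    have hzr : orderOf ((z : G ⧸ N) ^ (orderOf z / r)) = r := by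
      rw [← Subgroup.coe_pow, Subgroup.orderOf_coe]
      exact orderOf_pow_orderOf_div (orderOf_pos z).ne' hrd
    have hcomm : Commute y' ((z : G ⧸ N) ^ (orderOf z / r)) := by
      obtain ⟨i, rfl⟩ := hy'
      refine ((?_ : Commute y (z : G ⧸ N)).zpow_left i).pow_right _
      exact mem_centralizer_singleton_iff.mp z.2 |> fun e => (e.symm : Commute y (z : G ⧸ N))
    exact (h.quotient).no_mul_order hp' hr hrp.symm ⟨y' * (z : G ⧸ N) ^ (orderOf z / r), by
      rw [hcomm.orderOf_mul_eq_mul_orderOf_of_coprime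
        (by rw [hyo, hzr]; exact (Nat.coprime_primes hp' hr).mpr hrp.symm), hyo, hzr]⟩
  exact hcard.isNilpotent

/-- The kernel case: `X ∩ N` centralises `V`. -/
theorem Outside.solvable_of_centralizes (h : Outside N) {X V : Subgroup G} (hsurj : X ⊔ N = ⊤)
    {q : ℕ} (hq : q.Prime) (hq2 : q ≠ 2) (hV1 : V ≠ ⊥) (hVN : V ≤ N)
    (hV : Cfsg.IsElementaryAbelian q V) (hXV : X ≤ normalizer (V : Set G))
    (hC : X ⊓ N ≤ centralizer (V : Set G)) : Group.IsSolvable (G ⧸ N) := by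
  by_contra hns
  haveI := hV.1
  haveI := Fact.mk hq
  obtain ⟨u, hu, hud, hu2, huq⟩ : ∃ u, u.Prime ∧ u ∣ Nat.card (G ⧸ N) ∧ u ≠ 2 ∧ u ≠ q := by
    by_contra hcon
    push Not at hcon
    exact hns (FewOrders.isSolvable_of_two_primes Nat.prime_two hq fun t ht htd =>
      or_iff_not_imp_left.mpr fun h2 => hcon t ht htd h2)
  let ψ : X →* MulAut V := V.normalizerMonoidHom.comp (inclusion hXV)
  have hψ : ∀ (x : X) (v : V), ((ψ x v : V) : G) = x * v * (x : G)⁻¹ := fun x v => rfl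
  have hψN : ∀ x : X, (x : G) ∈ N → ψ x = 1 := fun x hx => by
    refine MulEquiv.ext fun v => Subtype.ext ?_
    rw [hψ, MulAut.one_apply,
      ← mem_centralizer_iff.mp (hC (Subgroup.mem_inf.mpr ⟨x.2, hx⟩)) v v.2, mul_inv_cancel_right]
  obtain ⟨⟨v₀, hv₀⟩, hv₀1⟩ := Subgroup.ne_bot_iff_exists_ne_one.mp hV1
  have hfpf : ∀ (x : X) {w a : ℕ}, w.Prime → w ≠ q → 0 < a → orderOf (x : G) = w ^ a →
      (x : G) ∉ N → ∀ v : V, ψ x v = v → v = 1 := fun x w a hw hwq ha hx hxN v hv => by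
    refine Subtype.ext (h.eq_one_of_commute hq hw hwq hVN hV.2 hxN ha hx v.2 ?_)
    have h1 := congrArg Subtype.val hv
    rw [hψ] at h1
    exact mul_inv_eq_iff_eq_mul.mp h1
  obtain ⟨y, hyX, hyN, ⟨b, hb, hyo⟩, hy2⟩ := h.exists_lift hsurj Nat.prime_two (h.even_quotient hns)
  obtain ⟨x, hxX, hxN, ⟨a, ha, hxo⟩, -⟩ := h.exists_lift hsurj hu hud
  have hinv : ∀ z : X, (z : G) ∉ N → (z : G) ^ 2 ∈ N → ∀ c, 0 < c → orderOf (z : G) = 2 ^ c →
      ∀ v : V, ψ z v = v⁻¹ := by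
    intro z hz hz2 c hc hzo v
    refine eq_inv_of_mul_eq_one_right (hfpf z Nat.prime_two hq2.symm hc hzo hz (v * ψ z v) ?_)
    rw [map_mul, ← MulAut.mul_apply, ← map_mul, ← pow_two, hψN (z ^ 2) (by simpa using hz2),
      MulAut.one_apply, mul_comm]
  set y' : X := ⟨y, hyX⟩
  set x' : X := ⟨x, hxX⟩
  have hy_inv := hinv y' hyN hy2 b hb hyo
  have hcomm : Commute (ψ x') (ψ y') := by
    refine MulEquiv.ext fun v => ?_
    rw [MulAut.mul_apply, MulAut.mul_apply, hy_inv, hy_inv, map_inv]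
  have hne : ∀ (z : X) {w c : ℕ}, w.Prime → w ≠ q → 0 < c → orderOf (z : G) = w ^ c →
      (z : G) ∉ N → orderOf (ψ z) ≠ 1 := fun z w c hw hwq hc hzo hz h1 => by
    have := hfpf z hw hwq hc hzo hz ⟨v₀, hv₀⟩ (by rw [orderOf_eq_one_iff.mp h1, MulAut.one_apply])
    exact hv₀1 this
  have hy' : 2 ∣ orderOf (ψ y') := by
    have h1 : orderOf (ψ y') ∣ 2 ^ b := hyo ▸ (Subgroup.orderOf_coe y').symm ▸ orderOf_map_dvd ψ y'
    obtain ⟨j, -, hj⟩ := (Nat.dvd_prime_pow Nat.prime_two).mp h1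
    rcases j with _ | j
    · exact absurd (by simpa using hj) (hne y' Nat.prime_two hq2.symm hb hyo hyN)
    · exact hj ▸ dvd_pow_self 2 (Nat.succ_ne_zero j)
  obtain ⟨j, -, hj⟩ := (Nat.dvd_prime_pow hu).mp
    (hxo ▸ (Subgroup.orderOf_coe x').symm ▸ orderOf_map_dvd ψ x' : orderOf (ψ x') ∣ u ^ a)
  have hx' : u ∣ orderOf (ψ x') := by
    rcases j with _ | j
    · exact absurd (by simpa using hj) (hne x' hu huq ha hxo hxN)
    · exact hj ▸ dvd_pow_self u (Nat.succ_ne_zero j)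
  obtain ⟨i, -, hi⟩ := (Nat.dvd_prime_pow Nat.prime_two).mp
    (hyo ▸ (Subgroup.orderOf_coe y').symm ▸ orderOf_map_dvd ψ y' : orderOf (ψ y') ∣ 2 ^ b)
  have hprod : orderOf (ψ (x' * y')) = orderOf (ψ x') * orderOf (ψ y') := by
    rw [map_mul, hcomm.orderOf_mul_eq_mul_orderOf_of_coprime
      (by rw [hj, hi]; exact ((Nat.coprime_primes hu Nat.prime_two).mpr hu2).pow j i)]
  have hxy : ((x' * y' : X) : G) ∉ N := fun hm => by
    rw [hψN _ hm, orderOf_one] at hprod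
    have := Nat.eq_one_of_mul_eq_one_right hprod.symm
    rw [this] at hx'
    exact hu.ne_one (Nat.dvd_one.mp hx')
  have hd : orderOf (ψ x') * orderOf (ψ y') ∣ orderOf ((x' * y' : X) : G) := by
    rw [← hprod, Subgroup.orderOf_coe]
    exact orderOf_map_dvd ψ _
  exact hu2 (eq_of_dvd_orderOf hu Nat.prime_two (h _ hxy) ((hx'.mul_right _).trans hd)
    ((hy'.mul_left _).trans hd))

end CfsgLib.OutsideEPPO
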