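import Cfsg.Agent.Lib.Struct78.OutsideEPPO.Basic

/-!
If all elements outside a nonsoluble normal subgroup have prime power order, the quotient is soluble.
-/

set_option autoImplicit false
set_option linter.style.haveILetI false

namespace CfsgLib.OutsideEPPO

open Subgroup
open scoped commutatorElement IsMulCommutative

variable {G : Type*} [Group G] [Finite G] {N : Subgroup G} [N.Normal]

/-- An element of odd prime order outside `N` moves every subgroup of a `2`-subgroup of `N` it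
normalises, strictly between itself and the subgroup. -/
theorem Outside.not_stable (h : Outside N) {W H : Subgroup G} (hWN : W ≤ N) (hW : IsPGroup 2 W)
    (hHW : H ≤ W) (hidx : ∀ a ∈ W, a ∉ H → ∀ b ∈ W, b ∉ H → a * b ∈ H) (hne : H ≠ W) {g : G}
    {r : ℕ} (hr : r.Prime) (hr2 : r ≠ 2) (hgo : orderOf g = r) (hgN : g ∉ N)
    (hgW : g ∈ normalizer (W : Set G)) (hgH : g ∈ normalizer (H : Set G)) : False := by
  haveI := Fact.mk hr
  let S : Type _ := {w : G // w ∈ W ∧ w ∉ H}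
  have hstab : ∀ k ∈ zpowers g, ∀ w : S, k * (w : G) * k⁻¹ ∈ W ∧ k * (w : G) * k⁻¹ ∉ H := by
    intro k hk w
    exact ⟨(mem_normalizer_iff.1 (zpowers_le.mpr hgW hk) _).1 w.2.1,
      fun hm => w.2.2 ((mem_normalizer_iff.1 (zpowers_le.mpr hgH hk) _).2 hm)⟩
  letI : MulAction (zpowers g) S :=
    { smul := fun k w => ⟨(k : G) * w * (k : G)⁻¹, hstab k k.2 w⟩
      one_smul := fun w => Subtype.ext (by
        show ((1 : zpowers g) : G) * w * ((1 : zpowers g) : G)⁻¹ = w
        simp)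
      mul_smul := fun k l w => Subtype.ext (by
        show ((k * l : zpowers g) : G) * w * ((k * l : zpowers g) : G)⁻¹ =
          (k : G) * ((l : G) * w * (l : G)⁻¹) * (k : G)⁻¹
        rw [Subgroup.coe_mul]
        group) }
  obtain ⟨w₀, hw₀, hw₀'⟩ := SetLike.exists_of_lt (lt_of_le_of_ne hHW hne)
  have hcard : Nat.card S = Nat.card H := by
    refine Nat.card_congr
      { toFun := fun w => ⟨(w : G) * w₀, hidx _ w.2.1 w.2.2 _ hw₀ hw₀'⟩
        invFun := fun k => ⟨(k : G) * w₀⁻¹, W.mul_mem (hHW k.2) (W.inv_mem hw₀), fun hm =>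
          hw₀' (by simpa using H.mul_mem (H.inv_mem hm) k.2)⟩
        left_inv := fun w => Subtype.ext (by simp)
        right_inv := fun k => Subtype.ext (by simp) }
  obtain ⟨k, hk⟩ := IsPGroup.iff_card.mp (hW.to_le hHW)
  obtain ⟨⟨w, hw, hwH⟩, hfix⟩ := IsPGroup.nonempty_fixed_point_of_prime_not_dvd_card
    (p := r) (IsPGroup.of_card (n := 1) (G := zpowers g) (by rw [Nat.card_zpowers, hgo, pow_one])) S
    (by
      rw [hcard, hk]
      exact fun hd => hr2 ((Nat.prime_dvd_prime_iff_eq hr Nat.prime_two).mp (hr.dvd_of_dvd_pow hd)))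
  have h1 : g * w * g⁻¹ = w := congrArg Subtype.val (hfix ⟨g, mem_zpowers g⟩)
  have hgw : Commute g w := mul_inv_eq_iff_eq_mul.mp h1
  have hw1 : w ≠ 1 := fun he => hwH (he ▸ one_mem _)
  obtain ⟨j, hj⟩ := IsPGroup.iff_orderOf.1 hW ⟨w, hw⟩
  rw [Subgroup.orderOf_mk] at hj
  rcases j with _ | j
  · exact hw1 (orderOf_eq_one_iff.mp (by simpa using hj))
  have ho : orderOf (g * w) = r * 2 ^ (j + 1) := by
    rw [hgw.orderOf_mul_eq_mul_orderOf_of_coprime
      (by rw [hgo, hj]; exact ((Nat.coprime_primes hr Nat.prime_two).mpr hr2).pow_right _), hgo, hj]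
  have hgwN : g * w ∉ N := fun hm => hgN (by simpa using N.mul_mem hm (N.inv_mem (hWN hw)))
  exact hr2 (eq_of_dvd_orderOf hr Nat.prime_two (h _ hgwN) (ho ▸ dvd_mul_right r _)
    (ho ▸ (dvd_pow_self 2 (Nat.succ_ne_zero j)).mul_left r))

/-- A normalised `2`-subgroup not centralising a normalised subgroup, minimal so. -/
theorem exists_min_moving {X D V : Subgroup G} (hD : IsPGroup 2 D) (hDX : X ≤ normalizer (D : Set G))
    (hXV : X ≤ normalizer (V : Set G)) (hDC : ¬ D ≤ centralizer (V : Set G)) :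
    ∃ W : Subgroup G, W ≤ D ∧ X ≤ normalizer (W : Set G) ∧ ¬ W ≤ centralizer (V : Set G) ∧
      ∀ a ∈ W, (a ^ 2 ∈ centralizer (V : Set G)) ∧
        ∀ b ∈ W, ⁅a, b⁆ ∈ centralizer (V : Set G) := by
  obtain ⟨W, hW⟩ := (Set.toFinite {W : Subgroup G | W ≤ D ∧ X ≤ normalizer (W : Set G) ∧
    ¬ W ≤ centralizer (V : Set G)}).exists_minimal ⟨D, le_rfl, hDX, hDC⟩
  obtain ⟨hWD, hXW, hWC⟩ := hW.prop
  have hWp : IsPGroup 2 W := hD.to_le hWD
  haveI : Nontrivial W := (Subgroup.nontrivial_iff_ne_bot W).mpr fun hb => hWC (hb.le.trans bot_le)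
  set Φ := (frattini W).map W.subtype
  have hΦW : Φ ≤ W := map_subtype_le _
  have hXΦ : X ≤ normalizer (Φ : Set G) := by
    have key : ∀ g ∈ X, ∀ a ∈ Φ, g * a * g⁻¹ ∈ Φ := by
      intro g hg a ha
      obtain ⟨a, ha, rfl⟩ := ha
      let e : MulAut W := W.normalizerMonoidHom ⟨g, hXW hg⟩
      refine ⟨e a, ?_, rfl⟩
      have hch : (frattini W).map e.toMonoidHom = frattini W :=
        Subgroup.characteristic_iff_map_eq.mp inferInstance e
      rw [← hch]
      exact mem_map_of_mem _ ha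
    intro g hg
    refine mem_normalizer_iff.2 fun a => ⟨key g hg a, fun hm => ?_⟩
    have := key g⁻¹ (X.inv_mem hg) _ hm
    convert this using 1
    group
  have hΦne : Φ ≠ W := fun he => by
    refine CfsgLib.PGroup.frattini_ne_top (P := W) (Subgroup.map_injective W.subtype_injective ?_)
    rw [← MonoidHom.range_eq_map, Subgroup.range_subtype]
    exact he
  have hΦC : Φ ≤ centralizer (V : Set G) := by
    by_contra hnc
    exact hΦne (le_antisymm hΦW (hW.le_of_le ⟨hΦW.trans hWD, hXΦ, hnc⟩ hΦW))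
  refine ⟨W, hWD, hXW, hWC, fun a ha => ⟨hΦC ?_, fun b hb => hΦC ?_⟩⟩
  · exact ⟨_, CfsgLib.PGroup.pow_mem_frattini hWp ⟨a, ha⟩, rfl⟩
  · exact ⟨⁅(⟨a, ha⟩ : W), ⟨b, hb⟩⁆, CfsgLib.PGroup.commutator_le_frattini hWp
      (commutator_mem_commutator (mem_top _) (mem_top _)), rfl⟩

/-- An element acting without fixed points on `V` forces contradiction with a moving `2`-group. -/
theorem Outside.weight_false (h : Outside N) {W V : Subgroup G} {q r : ℕ} (hq : q.Prime)
    (hq2 : q ≠ 2) (hr : r.Prime) (hr2 : r ≠ 2) (hrq : r ≠ q) (hV1 : V ≠ ⊥) (hVN : V ≤ N)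
    (hV : Cfsg.IsElementaryAbelian q V) (hWN : W ≤ N) (hW : IsPGroup 2 W)
    (hWV : W ≤ normalizer (V : Set G)) (hV0 : V ⊓ centralizer (W : Set G) = ⊥)
    (hsq : ∀ a ∈ W, (a ^ 2 ∈ centralizer (V : Set G)) ∧
      ∀ b ∈ W, ⁅a, b⁆ ∈ centralizer (V : Set G))
    {g : G} (hgo : orderOf g = r) (hgN : g ∉ N) (hgW : g ∈ normalizer (W : Set G))
    (hgV : g ∈ normalizer (V : Set G)) : False := by
  classical
  haveI := hV.1
  haveI := Fact.mk hr
  haveI := Fact.mk hq
  set C := centralizer (V : Set G) with hCdef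
  -- a maximal subgroup with fixed points
  obtain ⟨H, hH⟩ := (Set.toFinite {H : Subgroup G | W ⊓ C ≤ H ∧ H ≤ W ∧
    V ⊓ centralizer (H : Set G) ≠ ⊥}).exists_maximal ⟨W ⊓ C, le_rfl, inf_le_left, fun hb => hV1 (by
      rw [eq_bot_iff, ← hb]
      exact le_inf le_rfl ((show V ≤ centralizer (C : Set G) from fun v hv =>
        mem_centralizer_iff.mpr fun c hc => (mem_centralizer_iff.mp hc v hv).symm).trans
          (centralizer_le (SetLike.coe_subset_coe.mpr inf_le_right))))⟩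
  obtain ⟨hCH, hHW, hU1⟩ := hH.prop
  have hne : H ≠ W := fun he => hU1 (he ▸ hV0)
  set U := V ⊓ centralizer (H : Set G) with hUdef
  have hmax : ∀ a ∈ W, ∀ v ∈ U, v ≠ 1 → Commute a v → a ∈ H := by
    intro a ha v hv hv1 hav
    obtain ⟨hvV, hvH⟩ := Subgroup.mem_inf.mp hv
    refine hH.le_of_ge ⟨hCH.trans le_sup_left, sup_le hHW (zpowers_le.mpr ha), fun hb => hv1 ?_⟩
      le_sup_left (mem_sup_right (mem_zpowers a))
    have hle : H ⊔ zpowers a ≤ centralizer ({v} : Set G) :=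
      sup_le (fun y hy => mem_centralizer_singleton_iff.mpr (mem_centralizer_iff.mp hvH y hy))
        (zpowers_le.mpr (mem_centralizer_singleton_iff.mpr hav.eq))
    have hmem : v ∈ V ⊓ centralizer ((H ⊔ zpowers a : Subgroup G) : Set G) :=
      Subgroup.mem_inf.mpr ⟨hvV, mem_centralizer_iff.mpr fun y hy =>
        mem_centralizer_singleton_iff.mp (hle hy)⟩
    rwa [hb, Subgroup.mem_bot] at hmem
  have hWH : ∀ a ∈ W, ∀ y ∈ H, a * y * a⁻¹ ∈ H := by
    intro a ha y hy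
    have h1 : ⁅a, y⁆ ∈ H := hCH (Subgroup.mem_inf.mpr ⟨by
      rw [commutatorElement_def]
      exact W.mul_mem (W.mul_mem (W.mul_mem ha (hHW hy)) (W.inv_mem ha)) (W.inv_mem (hHW hy)),
      (hsq a ha).2 y (hHW hy)⟩)
    rw [show a * y * a⁻¹ = ⁅a, y⁆ * y by rw [commutatorElement_def]; group]
    exact H.mul_mem h1 hy
  have hinv : ∀ a ∈ W, a ∉ H → ∀ v ∈ U, a * v * a⁻¹ = v⁻¹ := by
    intro a ha haH v hv
    obtain ⟨hvV, hvH⟩ := Subgroup.mem_inf.mp hv
    have hav : a * v * a⁻¹ ∈ U := by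
      refine Subgroup.mem_inf.mpr ⟨(mem_normalizer_iff.1 (hWV ha) v).1 hvV,
        mem_centralizer_iff.mpr fun y hy => ?_⟩
      have h1 : a⁻¹ * y * a⁻¹⁻¹ ∈ H := hWH a⁻¹ (W.inv_mem ha) y hy
      have h2 := mem_centralizer_iff.mp hvH _ h1
      calc y * (a * v * a⁻¹) = a * (a⁻¹ * y * a⁻¹⁻¹ * v) * a⁻¹ := by group
        _ = a * (v * (a⁻¹ * y * a⁻¹⁻¹)) * a⁻¹ := by rw [h2]
        _ = a * v * a⁻¹ * y := by group
    have h1 : Commute v (a * v * a⁻¹) :=
      congrArg Subtype.val (mul_comm' (⟨v, hvV⟩ : V) ⟨_, (Subgroup.mem_inf.mp hav).1⟩)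
    have h2 : a ^ 2 * v = v * a ^ 2 := (mem_centralizer_iff.mp (hsq a ha).1 v hvV).symm
    have h3 : Commute a (v * (a * v * a⁻¹)) := by
      show a * (v * (a * v * a⁻¹)) = v * (a * v * a⁻¹) * a
      calc a * (v * (a * v * a⁻¹)) = a * v * a⁻¹ * (a ^ 2 * v) * a⁻¹ := by group
        _ = a * v * a⁻¹ * (v * a ^ 2) * a⁻¹ := by rw [h2]
        _ = a * v * a⁻¹ * v * a := by group
        _ = _ := by rw [h1.symm.eq]
    by_contra hne'
    exact haH (hmax a ha _ (U.mul_mem hv hav) (fun he => hne' (eq_inv_of_mul_eq_one_right he)) h3)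
  have hidx : ∀ a ∈ W, a ∉ H → ∀ b ∈ W, b ∉ H → a * b ∈ H := by
    intro a ha haH b hb hbH
    obtain ⟨⟨v, hv⟩, hv1⟩ := Subgroup.ne_bot_iff_exists_ne_one.mp hU1
    refine hmax _ (W.mul_mem ha hb) v hv (fun he => hv1 (Subtype.ext he))
      (mul_inv_eq_iff_eq_mul.mp ?_)
    calc a * b * v * (a * b)⁻¹ = a * (b * v * b⁻¹) * a⁻¹ := by group
      _ = (a * v * a⁻¹)⁻¹ := by rw [hinv b hb hbH v hv]; group
      _ = v := by rw [hinv a ha haH v hv, inv_inv]
  -- the conjugates of `H`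
  have hmove : ∀ i : ℕ, i < r → i ≠ 0 → ∃ y ∈ H, (g ^ i)⁻¹ * y * g ^ i ∉ H := by
    intro i hi hi0
    by_contra hcon
    push Not at hcon
    have hco : r.Coprime i :=
      hr.coprime_iff_not_dvd.mpr fun hd => absurd (Nat.le_of_dvd (by omega) hd) (by omega)
    have hio : orderOf (g ^ i) = r := by rw [(hgo ▸ hco : (orderOf g).Coprime i).orderOf_pow, hgo]
    refine h.not_stable hWN hW hHW hidx hne hr hr2 hio (fun hm => hgN ?_) (pow_mem hgW i) ?_
    · obtain ⟨m, hm'⟩ := exists_pow_eq_self_of_coprime (x := g) (n := i) (hgo ▸ hco.symm)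
      rw [← hm']
      exact N.pow_mem hm m
    · rw [← inv_mem_iff]
      have hle : H.map (MulAut.conj (g ^ i)⁻¹).toMonoidHom ≤ H := by
        rintro _ ⟨y, hy, rfl⟩
        show (g ^ i)⁻¹ * y * (g ^ i)⁻¹⁻¹ ∈ H
        rw [inv_inv]
        exact hcon y hy
      have heq := eq_of_le_of_card_ge hle
        (card_map_of_injective (MulAut.conj (g ^ i)⁻¹).injective).ge
      refine mem_normalizer_iff.2 fun y => ⟨fun hy => ?_, fun hy => ?_⟩
      · simpa using hcon y hy
      · rw [← heq] at hy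
        obtain ⟨z, hz, hz'⟩ := hy
        rwa [← (MulAut.conj (g ^ i)⁻¹).injective (hz'.trans (MulAut.conj_apply ((g ^ i)⁻¹) y).symm)]
  let ψ : normalizer (V : Set G) →* MulAut V := V.normalizerMonoidHom
  let act : G → V → V := fun x v => if hx : x ∈ normalizer (V : Set G) then ψ ⟨x, hx⟩ v else v
  have hact : ∀ x ∈ normalizer (V : Set G), ∀ v : V, ((act x v : V) : G) = x * v * x⁻¹ := by
    intro x hx v
    simp only [act, dif_pos hx]
    rfl
  haveI : Fintype H := Fintype.ofFinite H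
  let Φ : V → V := fun v => ∏ y : H, act (y : G) v
  have hHV : ∀ y : H, (y : G) ∈ normalizer (V : Set G) := fun y => hWV (hHW y.2)
  have hact_mul : ∀ x ∈ normalizer (V : Set G), ∀ u v : V, act x (u * v) = act x u * act x v := by
    intro x hx u v
    simp only [act, dif_pos hx, map_mul]
  have hΦmul : ∀ (s : Finset ℕ) (f : ℕ → V), Φ (∏ i ∈ s, f i) = ∏ i ∈ s, Φ (f i) := by
    intro s f
    show ∏ y : H, act (y : G) (∏ i ∈ s, f i) = ∏ i ∈ s, ∏ y : H, act (y : G) (f i)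
    rw [Finset.prod_comm]
    refine Finset.prod_congr rfl fun y _ => ?_
    simp only [act, dif_pos (hHV y), map_prod]
  obtain ⟨⟨v, hv⟩, hv1⟩ := Subgroup.ne_bot_iff_exists_ne_one.mp hU1
  obtain ⟨hvV, hvH⟩ := Subgroup.mem_inf.mp hv
  let v' : V := ⟨v, hvV⟩
  let vi : ℕ → V := fun i => act (g ^ i) v'
  have hvi : ∀ i, ((vi i : V) : G) = g ^ i * v * (g ^ i)⁻¹ := fun i => hact _ (pow_mem hgV i) _
  set S := ∏ i ∈ Finset.range r, vi i
  have hS : S = 1 := by
    have hrot : act g S = S := by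
      have h1 : act g S = ∏ i ∈ Finset.range r, vi (i + 1) := by
        simp only [act, dif_pos hgV, S, map_prod]
        refine Finset.prod_congr rfl fun i _ => Subtype.ext ?_
        show g * (vi i : G) * g⁻¹ = _
        rw [hvi, hvi, pow_succ']
        group
      have h2 := Finset.prod_range_succ vi r
      have h3 := Finset.prod_range_succ' vi r
      have h4 : vi r = vi 0 := Subtype.ext (by rw [hvi, hvi, ← hgo, pow_orderOf_eq_one, pow_zero])
      rw [h4] at h2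
      rw [h1]
      exact mul_right_cancel (h3.symm.trans h2)
    have h5 := congrArg Subtype.val hrot
    rw [hact g hgV] at h5
    exact Subtype.ext (h.eq_one_of_commute hq hr hrq hVN hV.2 hgN one_pos (by rw [hgo, pow_one]) S.2
      (mul_inv_eq_iff_eq_mul.mp h5))
  have hzero : ∀ i, i < r → i ≠ 0 → Φ (vi i) = 1 := by
    intro i hi hi0
    obtain ⟨y₀, hy₀, hy₀'⟩ := hmove i hi hi0
    have hy₀W : (g ^ i)⁻¹ * y₀ * g ^ i ∈ W := by
      have := (mem_normalizer_iff.1 (inv_mem (pow_mem hgW i)) y₀).1 (hHW hy₀)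
      simpa using this
    have h1 : act y₀ (vi i) = (vi i)⁻¹ := by
      refine Subtype.ext ?_
      rw [hact y₀ (hHV ⟨y₀, hy₀⟩), hvi, InvMemClass.coe_inv, hvi]
      calc y₀ * (g ^ i * v * (g ^ i)⁻¹) * y₀⁻¹
          = g ^ i * ((g ^ i)⁻¹ * y₀ * g ^ i * v * ((g ^ i)⁻¹ * y₀ * g ^ i)⁻¹) * (g ^ i)⁻¹ := by group
        _ = g ^ i * v⁻¹ * (g ^ i)⁻¹ := by rw [hinv _ hy₀W hy₀' v hv]
        _ = (g ^ i * v * (g ^ i)⁻¹)⁻¹ := by group
    have h2 : Φ (vi i) = (Φ (vi i))⁻¹ := by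
      show ∏ y : H, act (y : G) (vi i) = (∏ y : H, act (y : G) (vi i))⁻¹
      rw [← Finset.prod_inv_distrib]
      symm
      refine Fintype.prod_equiv (Equiv.mulRight ⟨y₀, hy₀⟩) _ _ fun y => ?_
      refine Subtype.ext ?_
      show (((act (y : G) (vi i))⁻¹ : V) : G) = (act ((y * ⟨y₀, hy₀⟩ : H) : G) (vi i) : G)
      rw [InvMemClass.coe_inv, hact _ (hHV y), hact _ (hHV _), Subgroup.coe_mul]
      calc ((y : G) * (vi i : G) * (y : G)⁻¹)⁻¹ = (y : G) * (vi i : G)⁻¹ * (y : G)⁻¹ := by group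
        _ = (y : G) * (y₀ * (vi i : G) * y₀⁻¹) * (y : G)⁻¹ := by
            rw [← InvMemClass.coe_inv, ← h1, hact _ (hHV ⟨y₀, hy₀⟩)]
        _ = _ := by group
    have h3 : Φ (vi i) ^ 2 = 1 := by rw [pow_two]; nth_rewrite 1 [h2]; exact inv_mul_cancel _
    have h4 : Φ (vi i) ^ q = 1 := Subtype.ext (by simpa using hV.2 _ (Φ (vi i)).2)
    rw [← orderOf_eq_one_iff, ← Nat.dvd_one,
      ← ((Nat.coprime_primes hq Nat.prime_two).mpr hq2).gcd_eq_one]
    exact Nat.dvd_gcd (orderOf_dvd_of_pow_eq_one h4) (orderOf_dvd_of_pow_eq_one h3)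
  have hΦ0 : Φ (vi 0) = v' ^ Fintype.card H := by
    show ∏ y : H, act (y : G) (vi 0) = _
    rw [← Finset.card_univ, ← Finset.prod_const]
    refine Finset.prod_congr rfl fun y _ => Subtype.ext ?_
    rw [hact _ (hHV y), hvi, pow_zero, one_mul, inv_one, mul_one,
      mem_centralizer_iff.mp hvH y y.2, mul_inv_cancel_right]
  have h6 : Φ S = 1 := by
    rw [hS]
    exact Finset.prod_eq_one fun y _ => by simp only [act, dif_pos (hHV y), map_one]
  rw [show S = ∏ i ∈ Finset.range r, vi i from rfl, hΦmul,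
    Finset.prod_eq_single 0 (fun i hi hi0 => hzero i (Finset.mem_range.mp hi) hi0)
      (fun h0 => absurd (Finset.mem_range.mpr hr.pos) h0), hΦ0, ← Nat.card_eq_fintype_card] at h6
  obtain ⟨k, hk⟩ := IsPGroup.iff_card.mp (hW.to_le hHW)
  rw [hk] at h6
  have h7 : v' ^ q = 1 := Subtype.ext (by simpa using hV.2 v hvV)
  have h8 : v' = 1 := by
    rw [← orderOf_eq_one_iff, ← Nat.dvd_one,
      ← (((Nat.coprime_primes hq Nat.prime_two).mpr hq2).pow_right k).gcd_eq_one]
    exact Nat.dvd_gcd (orderOf_dvd_of_pow_eq_one h7) (orderOf_dvd_of_pow_eq_one h6)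
  exact hv1 (Subtype.ext (congrArg (Subtype.val : V → G) h8))

/-- No supplement with `2`-group intersection normalises an elementary subgroup of `N` of odd exponent. -/
theorem Outside.two_group_false (h : Outside N) (hns : ¬ Group.IsSolvable (G ⧸ N)) {X : Subgroup G}
    (hsurj : X ⊔ N = ⊤) (hD : IsPGroup 2 (X ⊓ N : Subgroup G)) {q : ℕ} (hq : q.Prime) (hq2 : q ≠ 2) :
    ∀ (n : ℕ) (V : Subgroup G), Nat.card V = n → V ≠ ⊥ → V ≤ N → Cfsg.IsElementaryAbelian q V →
      X ≤ normalizer (V : Set G) → False := by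
  intro n
  induction n using Nat.strong_induction_on with
  | _ n ih =>
  intro V hn hV1 hVN hV hXV
  have hDC : ¬ X ⊓ N ≤ centralizer (V : Set G) := fun hle =>
    hns (h.solvable_of_centralizes hsurj hq hq2 hV1 hVN hV hXV hle)
  have hDX : X ≤ normalizer ((X ⊓ N : Subgroup G) : Set G) := by
    refine fun g hg => mem_normalizer_iff.2 fun a => ?_
    rw [Subgroup.mem_inf, Subgroup.mem_inf]
    have hn := (inferInstance : N.Normal)
    refine ⟨fun ha => ⟨X.mul_mem (X.mul_mem hg ha.1) (X.inv_mem hg), hn.conj_mem a ha.2 g⟩,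
      fun ha => ⟨?_, ?_⟩⟩
    · have := X.mul_mem (X.mul_mem (X.inv_mem hg) ha.1) hg
      simpa [mul_assoc] using this
    · have := hn.conj_mem _ ha.2 g⁻¹
      simpa [mul_assoc] using this
  obtain ⟨W, hWD, hXW, hWC, hsq⟩ := exists_min_moving hD hDX hXV hDC
  haveI := Fact.mk hq
  obtain ⟨u, hu, hud, hu2, huq⟩ : ∃ u, u.Prime ∧ u ∣ Nat.card (G ⧸ N) ∧ u ≠ 2 ∧ u ≠ q := by
    by_contra hcon
    push Not at hcon
    exact hns (FewOrders.isSolvable_of_two_primes Nat.prime_two hq fun t ht htd =>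
      or_iff_not_imp_left.mpr fun h2 => hcon t ht htd h2)
  obtain ⟨g, hgX, hgN, ⟨a, ha, hgo⟩, hgu⟩ := h.exists_lift hsurj hu hud
  have hgu1 : g ^ u = 1 := by
    have hmem : g ^ u ∈ X ⊓ N := Subgroup.mem_inf.mpr ⟨X.pow_mem hgX u, hgu⟩
    obtain ⟨j, hj⟩ := IsPGroup.iff_orderOf.1 hD ⟨g ^ u, hmem⟩
    rw [Subgroup.orderOf_mk] at hj
    rw [← orderOf_eq_one_iff, ← Nat.dvd_one,
      ← (((Nat.coprime_primes hu Nat.prime_two).mpr hu2).pow a j).gcd_eq_one]
    exact Nat.dvd_gcd (hgo ▸ orderOf_pow_dvd u) (dvd_of_eq hj)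
  haveI := Fact.mk hu
  have hgu' : orderOf g = u := orderOf_eq_prime hgu1 fun he => hgN (he ▸ one_mem N)
  by_cases hV0 : V ⊓ centralizer (W : Set G) = ⊥
  · exact h.weight_false hq hq2 hu hu2 huq hV1 hVN hV (hWD.trans inf_le_right) (hD.to_le hWD)
      ((hWD.trans inf_le_left).trans hXV) hV0 hsq hgu' hgN (hXW hgX) (hXV hgX)
  · refine ih (Nat.card (V ⊓ centralizer (W : Set G) : Subgroup G)) (hn ▸ ?_) _ rfl hV0
      (inf_le_left.trans hVN) ⟨⟨⟨fun a b => Subtype.ext (congrArg (Subtype.val : V → G) (haveI := hV.1;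
        mul_comm' (⟨a, (Subgroup.mem_inf.mp a.2).1⟩ : V) ⟨b, (Subgroup.mem_inf.mp b.2).1⟩))⟩⟩,
        fun v hv => hV.2 v (Subgroup.mem_inf.mp hv).1⟩ ?_
    · refine lt_of_le_of_ne (Subgroup.card_le_of_le inf_le_left) fun he => hWC ?_
      have heq := eq_of_le_of_card_ge (inf_le_left : V ⊓ centralizer (W : Set G) ≤ V) he.ge
      intro w hw
      refine mem_centralizer_iff.mpr fun v hv => ?_
      exact (mem_centralizer_iff.mp (Subgroup.mem_inf.mp (heq.symm ▸ hv :
        v ∈ V ⊓ centralizer (W : Set G))).2 w hw).symm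
    · intro x hx
      refine mem_normalizer_iff.2 fun v => ?_
      have key : ∀ x ∈ X, ∀ v ∈ V ⊓ centralizer (W : Set G),
          x * v * x⁻¹ ∈ V ⊓ centralizer (W : Set G) := by
        intro x hx v hv
        obtain ⟨hv1, hv2⟩ := Subgroup.mem_inf.mp hv
        refine Subgroup.mem_inf.mpr ⟨(mem_normalizer_iff.1 (hXV hx) v).1 hv1,
          mem_centralizer_iff.mpr fun w hw => ?_⟩
        have h2 := mem_centralizer_iff.mp hv2 _
          ((mem_normalizer_iff.1 (hXW (X.inv_mem hx)) w).1 hw)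
        calc w * (x * v * x⁻¹) = x * (x⁻¹ * w * x⁻¹⁻¹ * v) * x⁻¹ := by group
          _ = x * (v * (x⁻¹ * w * x⁻¹⁻¹)) * x⁻¹ := by rw [h2]
          _ = x * v * x⁻¹ * w := by group
      refine ⟨key x hx v, fun hm => ?_⟩
      have := key x⁻¹ (X.inv_mem hx) _ hm
      convert this using 1
      group

/-- The elements of exponent `q` in the centre of a subgroup. -/
def omegaCentre (q : ℕ) (D : Subgroup G) : Subgroup G where
  carrier := {v | v ∈ D ∧ v ^ q = 1 ∧ ∀ d ∈ D, Commute v d}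
  one_mem' := ⟨one_mem _, one_pow q, fun d _ => Commute.one_left d⟩
  mul_mem' := fun {u v} hu hv => ⟨mul_mem hu.1 hv.1, by
    rw [(hu.2.2 v hv.1).mul_pow, hu.2.1, hv.2.1, one_mul],
    fun d hd => (hu.2.2 d hd).mul_left (hv.2.2 d hd)⟩
  inv_mem' := fun {v} hv => ⟨inv_mem hv.1, by rw [inv_pow, hv.2.1, inv_one],
    fun d hd => (hv.2.2 d hd).inv_left⟩

omit [Finite G] in
theorem le_normalizer_omegaCentre (q : ℕ) {D X : Subgroup G} (hX : X ≤ normalizer (D : Set G)) :
    X ≤ normalizer (omegaCentre q D : Set G) := by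
  have key : ∀ x ∈ X, ∀ v ∈ omegaCentre q D, x * v * x⁻¹ ∈ omegaCentre q D := by
    intro x hx v hv
    refine ⟨(mem_normalizer_iff.1 (hX hx) v).1 hv.1, by rw [conj_pow, hv.2.1, mul_one, mul_inv_cancel],
      fun d hd => ?_⟩
    have hd' := hv.2.2 _ ((mem_normalizer_iff.1 (hX (X.inv_mem hx)) d).1 hd)
    show x * v * x⁻¹ * d = d * (x * v * x⁻¹)
    calc x * v * x⁻¹ * d = x * (v * (x⁻¹ * d * x⁻¹⁻¹)) * x⁻¹ := by group
      _ = x * ((x⁻¹ * d * x⁻¹⁻¹) * v) * x⁻¹ := by rw [hd'.eq]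
      _ = _ := by group
  intro x hx
  refine mem_normalizer_iff.2 fun v => ⟨key x hx v, fun hm => ?_⟩
  have := key x⁻¹ (X.inv_mem hx) _ hm
  convert this using 1
  group

omit [Finite G] in
theorem omegaCentre_elementary (q : ℕ) (D : Subgroup G) :
    Cfsg.IsElementaryAbelian q (omegaCentre q D) :=
  ⟨⟨⟨fun u v => Subtype.ext (u.2.2.2 v v.2.1)⟩⟩, fun v hv => hv.2.1⟩

theorem omegaCentre_ne_bot {q : ℕ} [Fact q.Prime] {D : Subgroup G} (hD : Group.IsNilpotent D)
    (hd : q ∣ Nat.card D) : omegaCentre q D ≠ ⊥ := by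
  haveI := hD
  obtain ⟨P⟩ : Nonempty (Sylow q D) := inferInstance
  have hPn : (P : Subgroup D).Normal := inferInstance
  have hP1 : ¬ (P : Subgroup D) ≤ ⊥ := fun hle => by
    have h1 := P.dvd_card_of_dvd_card hd
    rw [le_bot_iff.mp hle, card_bot] at h1
    exact (Fact.out : q.Prime).not_dvd_one h1
  obtain ⟨z, hz, hz1, hzc⟩ := CfsgLib.OddOrder41.exists_central_step (P : Subgroup D) ⊥ hP1
  rw [Subgroup.mem_bot] at hz1
  obtain ⟨k, hk⟩ := IsPGroup.iff_orderOf.1 P.2 ⟨z, hz⟩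
  rw [Subgroup.orderOf_mk] at hk
  rcases k with _ | k
  · exact absurd (orderOf_eq_one_iff.mp (by simpa using hk)) hz1
  have ho : orderOf (z ^ (orderOf z / q)) = q :=
    orderOf_pow_orderOf_div (orderOf_pos z).ne' (hk ▸ dvd_pow_self q (Nat.succ_ne_zero k))
  intro hb
  have hmem : ((z ^ (orderOf z / q) : D) : G) ∈ omegaCentre q D := by
    refine ⟨SetLike.coe_mem _, ?_, fun d hd' => ?_⟩
    · rw [← Subgroup.coe_pow, ← pow_mul]
      have h9 := pow_orderOf_eq_one (z ^ (orderOf z / q))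
      rw [ho, ← pow_mul] at h9
      rw [h9, OneMemClass.coe_one]
    · have hc : Commute z ⟨d, hd'⟩ :=
        commutatorElement_eq_one_iff_mul_comm.mp (Subgroup.mem_bot.mp (hzc ⟨d, hd'⟩))
      exact (hc.pow_left (orderOf z / q)).map D.subtype
  rw [hb, Subgroup.mem_bot, ← OneMemClass.coe_one D] at hmem
  rw [Subtype.ext hmem, orderOf_one] at ho
  exact (Fact.out : q.Prime).ne_one ho.symm

/-- The theorem. -/
theorem isSolvable_quotient (hns : ¬ Group.IsSolvable N) (h : Outside N) :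
    Group.IsSolvable (G ⧸ N) := by
  by_contra hG
  obtain ⟨q, hq, hqd, hq2⟩ : ∃ q, q.Prime ∧ q ∣ Nat.card N ∧ q ≠ 2 := by
    by_contra hcon
    push Not at hcon
    exact hns (FewOrders.isSolvable_of_two_primes Nat.prime_two Nat.prime_two fun t ht htd =>
      Or.inl (hcon t ht htd))
  haveI := Fact.mk hq
  obtain ⟨Q⟩ : Nonempty (Sylow q N) := inferInstance
  set Q' := (Q : Subgroup N).map N.subtype with hQ'
  have hsup : normalizer (Q' : Set G) ⊔ N = ⊤ := Sylow.normalizer_sup_eq_top Q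
  obtain ⟨X, hX⟩ := (Set.toFinite {X : Subgroup G | X ≤ normalizer (Q' : Set G) ∧ X ⊔ N = ⊤}).exists_minimal
    ⟨_, le_rfl, hsup⟩
  obtain ⟨hXQ, hXN⟩ := hX.prop
  have hΦ : (X ⊓ N).subgroupOf X ≤ frattini X := by
    unfold frattini Order.radical
    simp only [le_iInf_iff]
    intro C hC
    by_contra hle
    have hsup' : C ⊔ (X ⊓ N).subgroupOf X = ⊤ := hC.2 _ (left_lt_sup.mpr hle)
    have hC' : C.map X.subtype ⊔ N = ⊤ := by
      refine eq_top_iff.mpr (hXN ▸ sup_le ?_ le_sup_right)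
      have h1 := congrArg (Subgroup.map X.subtype) hsup'
      rw [Subgroup.map_sup, ← MonoidHom.range_eq_map, Subgroup.range_subtype] at h1
      refine h1.ge.trans (sup_le_sup_left ?_ _)
      rintro _ ⟨y, hy, rfl⟩
      exact (Subgroup.mem_inf.mp hy).2
    have hlt : C.map X.subtype = X :=
      le_antisymm (map_subtype_le C)
        (hX.le_of_le ⟨(map_subtype_le C).trans hXQ, hC'⟩ (map_subtype_le C))
    refine hC.1 (Subgroup.map_injective X.subtype_injective ?_)
    rw [hlt, ← MonoidHom.range_eq_map, Subgroup.range_subtype]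
  haveI : Group.IsNilpotent (frattini X) := frattini_nilpotent
  have hDn : Group.IsNilpotent (X ⊓ N : Subgroup G) := by
    haveI : Group.IsNilpotent ((X ⊓ N).subgroupOf X) := CfsgLib.Fitting.isNilpotent_of_le inferInstance hΦ
    exact Group.nilpotent_of_mulEquiv (subgroupOfEquivOfLe inf_le_left)
  have hDX : X ≤ normalizer ((X ⊓ N : Subgroup G) : Set G) := by
    refine fun g hg => mem_normalizer_iff.2 fun a => ?_
    rw [Subgroup.mem_inf, Subgroup.mem_inf]
    have hn := (inferInstance : N.Normal)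
    refine ⟨fun ha => ⟨X.mul_mem (X.mul_mem hg ha.1) (X.inv_mem hg), hn.conj_mem a ha.2 g⟩,
      fun ha => ⟨?_, ?_⟩⟩
    · have := X.mul_mem (X.mul_mem (X.inv_mem hg) ha.1) hg
      simpa [mul_assoc] using this
    · have := hn.conj_mem _ ha.2 g⁻¹
      simpa [mul_assoc] using this
  have hD : IsPGroup 2 (X ⊓ N : Subgroup G) := by
    have hall : ∀ k : ℕ, k.Prime → k ∣ Nat.card (X ⊓ N : Subgroup G) → k = 2 := by
      intro k hk hkd
      by_contra hk2
      haveI := Fact.mk hk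
      refine hG (h.solvable_of_centralizes hXN hk hk2 (omegaCentre_ne_bot hDn hkd)
        (fun v hv => (Subgroup.mem_inf.mp hv.1).2) (omegaCentre_elementary k _)
        (le_normalizer_omegaCentre k hDX) fun d hd => ?_)
      exact mem_centralizer_iff.mpr fun v hv => (hv.2.2 d hd).eq
    exact IsPGroup.of_card (Nat.eq_prime_pow_of_unique_prime_dvd Nat.card_pos.ne' fun {d} hd hdd =>
      hall d hd hdd)
  have hQN : Q' ≤ N := map_subtype_le _
  refine h.two_group_false hG hXN hD hq hq2 _ (omegaCentre q Q') rfl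
    (omegaCentre_ne_bot (Q.2.map N.subtype).isNilpotent ?_) (fun v hv => hQN hv.1)
    (omegaCentre_elementary q _) (le_normalizer_omegaCentre q hXQ)
  rw [hQ', card_map_of_injective N.subtype_injective]
  exact Q.dvd_card_of_dvd_card hqd

end CfsgLib.OutsideEPPO
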